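import Mathlib
import Groth.Agent.H06QR.Regular
import Groth.Agent.H4Depth.Regular
import Mathlib.RingTheory.Filtration
import Mathlib.RingTheory.DiscreteValuationRing.Basic
import Mathlib.RingTheory.AlgebraicIndependent.Basic
import Mathlib.RingTheory.Localization.FractionRing

/-!
The order valuation of a regular local ring: a discrete valuation ring dominating it with purely
transcendental residue field.
-/

universe u

namespace Groth.Agent.H06RegVal

open MvPolynomial IsLocalRing

variable (A : Type u) [CommRing A] [IsRegularLocalRing A]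

/-- `a` has order exactly `n` for the maximal ideal. -/
def HasOrd (a : A) (n : ℕ) : Prop := a ∈ maximalIdeal A ^ n ∧ a ∉ maximalIdeal A ^ (n + 1)

variable {A}

theorem HasOrd.le {a : A} {n k : ℕ} (h : HasOrd A a n) (hk : a ∈ maximalIdeal A ^ k) : k ≤ n := by
  by_contra hn
  exact h.2 (Ideal.pow_le_pow_right (by omega) hk)

theorem HasOrd.ne_zero {a : A} {n : ℕ} (h : HasOrd A a n) : a ≠ 0 := fun h0 =>
  h.2 (h0 ▸ zero_mem _)

theorem exists_hasOrd {a : A} (ha : a ≠ 0) : ∃ n, HasOrd A a n := by
  classical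
  have h : ∃ n, a ∉ maximalIdeal A ^ n := by
    by_contra hc
    push Not at hc
    have h1 : a ∈ ⨅ n, maximalIdeal A ^ n := Submodule.mem_iInf _ |>.mpr hc
    rw [Ideal.iInf_pow_eq_bot_of_isLocalRing (maximalIdeal A) (maximalIdeal.isMaximal A).ne_top] at h1
    exact ha (by simpa using h1)
  obtain ⟨n, hn, hmin⟩ : ∃ n, a ∉ maximalIdeal A ^ n ∧ ∀ m < n, a ∈ maximalIdeal A ^ m :=
    ⟨Nat.find h, Nat.find_spec h, fun m hm => not_not.mp (Nat.find_min h hm)⟩
  rcases n with _ | n
  · exact absurd (by simp) hn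
  · exact ⟨n, hmin n (Nat.lt_succ_self n), hn⟩

theorem hasOrd_one : HasOrd A 1 0 := by
  refine ⟨by simp, ?_⟩
  rw [zero_add, pow_one]
  exact (maximalIdeal.isMaximal A).ne_top ∘ (Ideal.eq_top_iff_one _).mpr

variable {d : ℕ} (x : Fin d → A) (hx : Ideal.span (Set.range x) = maximalIdeal A)
  (hqr : CAlgX.IsQuasiRegular x)

include hx hqr in
theorem hasOrd_mul {a b : A} {n k : ℕ} (ha : HasOrd A a n) (hb : HasOrd A b k) :
    HasOrd A (a * b) (n + k) := by
  refine ⟨pow_add (maximalIdeal A) n k ▸ Ideal.mul_mem_mul ha.1 hb.1, fun hab => ?_⟩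
  have key : ∀ (c : A) (j : ℕ), HasOrd A c j → ∃ F : MvPolynomial (Fin d) A, F.IsHomogeneous j ∧
      eval x F = c ∧ map (residue A) F ≠ 0 := fun c j hc => by
    obtain ⟨F, hF, rfl⟩ := H06QR.exists_homogeneous (f := x) (k := j) (x := c) (by rw [hx]; exact hc.1)
    refine ⟨F, hF, rfl, fun h0 => hc.2 ?_⟩
    have h1 : ∀ s, F.coeff s ∈ maximalIdeal A := fun s => by
      rw [← residue_eq_zero_iff, ← coeff_map, h0, coeff_zero]
    have h2 := H06QR.Regular.eval_mem_mul x hF h1
    rwa [hx, ← pow_succ'] at h2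
  obtain ⟨F, hF, rfl, hF0⟩ := key a n ha
  obtain ⟨G, hG, rfl, hG0⟩ := key b k hb
  refine mul_ne_zero hF0 hG0 ?_
  rw [← map_mul]
  ext s
  rw [coeff_map, coeff_zero, residue_eq_zero_iff, ← hx]
  exact hqr _ _ (hF.mul hG) (by rwa [map_mul, hx]) s

include hx hqr in
theorem hasOrd_var (i : Fin d) : HasOrd A (x i) 1 := by
  refine ⟨by rw [pow_one, ← hx]; exact Ideal.subset_span ⟨i, rfl⟩, fun h => ?_⟩
  have h1 := hqr 1 (X i) (isHomogeneous_X A i) (by rw [eval_X, hx]; exact h) (Finsupp.single i 1)
  rw [coeff_X, hx] at h1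
  simp only [if_true] at h1
  exact (hasOrd_one (A := A)).2 (by rw [zero_add, pow_one]; exact h1)

include hx hqr in
theorem hasOrd_var_pow (i : Fin d) (n : ℕ) : HasOrd A (x i ^ n) n := by
  induction n with
  | zero => rw [pow_zero]; exact hasOrd_one
  | succ n ih => rw [pow_succ]; exact hasOrd_mul x hx hqr ih (hasOrd_var x hx hqr i)

variable [IsDomain A]

/-- The order valuation ring. -/
noncomputable def ordRing : Subalgebra A (FractionRing A) where
  carrier := {z | ∃ (a b : A) (k : ℕ), (Ideal.span (Set.range x) = maximalIdeal A → CAlgX.IsQuasiRegular x →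
    HasOrd A b k) ∧ b ≠ 0 ∧ a ∈ maximalIdeal A ^ k ∧ z = algebraMap A (FractionRing A) a / algebraMap A (FractionRing A) b}
  mul_mem' := by
    rintro _ _ ⟨a, b, k, hb, hb0, ha, rfl⟩ ⟨a', b', k', hb', hb'0, ha', rfl⟩
    refine ⟨a * a', b * b', k + k', fun h1 h2 => hasOrd_mul x h1 h2 (hb h1 h2) (hb' h1 h2), mul_ne_zero hb0 hb'0,
      pow_add (maximalIdeal A) k k' ▸ Ideal.mul_mem_mul ha ha', ?_⟩
    rw [map_mul, map_mul, div_mul_div_comm]
  add_mem' := by
    rintro _ _ ⟨a, b, k, hb, hb0, ha, rfl⟩ ⟨a', b', k', hb', hb'0, ha', rfl⟩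
    by_cases hP : Ideal.span (Set.range x) = maximalIdeal A ∧ CAlgX.IsQuasiRegular x
    · refine ⟨a * b' + b * a', b * b', k + k', fun h1 h2 => hasOrd_mul x h1 h2 (hb h1 h2) (hb' h1 h2),
        mul_ne_zero hb0 hb'0, ?_, ?_⟩
      · rw [pow_add]
        exact Ideal.add_mem _ (Ideal.mul_mem_mul ha (hb' hP.1 hP.2).1) (Ideal.mul_mem_mul (hb hP.1 hP.2).1 ha')
      · rw [map_mul, map_add, map_mul, map_mul]
        exact div_add_div _ _ ((map_ne_zero_iff _ (IsFractionRing.injective A _)).mpr hb0)
          ((map_ne_zero_iff _ (IsFractionRing.injective A _)).mpr hb'0)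
    · refine ⟨a * b' + b * a', b * b', 0, fun h1 h2 => absurd ⟨h1, h2⟩ hP, mul_ne_zero hb0 hb'0, by simp, ?_⟩
      rw [map_mul, map_add, map_mul, map_mul]
      exact div_add_div _ _ ((map_ne_zero_iff _ (IsFractionRing.injective A _)).mpr hb0)
        ((map_ne_zero_iff _ (IsFractionRing.injective A _)).mpr hb'0)
  algebraMap_mem' r := ⟨r, 1, 0, fun _ _ => hasOrd_one, one_ne_zero, by simp, by simp⟩

local notation "α" => algebraMap A (FractionRing A)

theorem div_mem {a b : A} {k : ℕ} (hb : HasOrd A b k) (ha : a ∈ maximalIdeal A ^ k) :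
    α a / α b ∈ ordRing x :=
  ⟨a, b, k, fun _ _ => hb, hb.ne_zero, ha, rfl⟩

include hx hqr in
theorem exists_rep (z : ordRing x) : ∃ (a b : A) (k : ℕ), HasOrd A b k ∧ a ∈ maximalIdeal A ^ k ∧
    (z : FractionRing A) = α a / α b := by
  obtain ⟨a, b, k, hb, -, ha, h⟩ := z.2
  exact ⟨a, b, k, hb hx hqr, ha, h⟩

theorem α_ne_zero {b : A} (hb : b ≠ 0) : α b ≠ 0 := (map_ne_zero_iff _ (IsFractionRing.injective A _)).mpr hb

include hx hqr in
theorem isUnit_iff {a b : A} {k : ℕ} (hb : HasOrd A b k) (ha : a ∈ maximalIdeal A ^ k) (z : ordRing x)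
    (hz : (z : FractionRing A) = α a / α b) : IsUnit z ↔ a ∉ maximalIdeal A ^ (k + 1) := by
  constructor
  · intro hu ha1
    obtain ⟨w, hw⟩ := hu.exists_right_inv
    obtain ⟨c, e, j, he, hc, hw'⟩ := exists_rep x hx hqr w
    have h1 : (z : FractionRing A) * w = 1 := by
      simpa using congrArg (Subtype.val : ordRing x → FractionRing A) hw
    rw [hz, hw', div_mul_div_comm, div_eq_one_iff_eq (mul_ne_zero (α_ne_zero hb.ne_zero) (α_ne_zero he.ne_zero)),
      ← map_mul, ← map_mul] at h1
    have h2 : a * c ∈ maximalIdeal A ^ (k + j + 1) := by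
      rw [show k + j + 1 = (k + 1) + j by omega, pow_add]; exact Ideal.mul_mem_mul ha1 hc
    rw [IsFractionRing.injective A _ h1] at h2
    exact (hasOrd_mul x hx hqr hb he).2 h2
  · intro ha1
    have hab : HasOrd A a k := ⟨ha, ha1⟩
    refine IsUnit.of_mul_eq_one ⟨_, div_mem x hab hb.1⟩ (Subtype.ext ?_)
    show (z : FractionRing A) * (α b / α a) = 1
    have h1 := α_ne_zero hb.ne_zero
    have h2 := α_ne_zero hab.ne_zero
    rw [hz]; field_simp

include hx hqr in
theorem exists_eq_pow_mul (i : Fin d) (z : ordRing x) (hz : z ≠ 0) :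
    ∃ (n : ℕ) (v : (ordRing x)ˣ), algebraMap A (ordRing x) (x i) ^ n * v = z := by
  obtain ⟨a, b, k, hb, ha, hzab⟩ := exists_rep x hx hqr z
  have ha0 : a ≠ 0 := fun h => hz (Subtype.ext (by rw [hzab, h, map_zero, zero_div]; rfl))
  obtain ⟨n, hn⟩ := exists_hasOrd ha0
  have hkn : k ≤ n := hn.le ha
  have hb' : HasOrd A (b * x i ^ (n - k)) n := by
    have := hasOrd_mul x hx hqr hb (hasOrd_var_pow x hx hqr i (n - k))
    rwa [Nat.add_sub_of_le hkn] at this
  let v : ordRing x := ⟨_, div_mem x hb' hn.1⟩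
  have hv : IsUnit v := (isUnit_iff x hx hqr hb' hn.1 v rfl).mpr hn.2
  refine ⟨n - k, hv.unit, Subtype.ext ?_⟩
  show α (x i) ^ (n - k) * (α a / α (b * x i ^ (n - k))) = (z : FractionRing A)
  have h1 := α_ne_zero hb.ne_zero
  have h2 := α_ne_zero (hasOrd_var x hx hqr i).ne_zero
  rw [hzab, map_mul, map_pow]; field_simp

include hx hqr in
theorem not_isUnit_var (i : Fin d) : ¬ IsUnit (algebraMap A (ordRing x) (x i)) := fun h => by
  refine (isUnit_iff x hx hqr hasOrd_one (a := x i) (by simp) _ (by simp)).mp h ?_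
  exact (hasOrd_var x hx hqr i).1

include hx hqr in
theorem irreducible_var (i : Fin d) : Irreducible (algebraMap A (ordRing x) (x i)) := by
  refine ⟨not_isUnit_var x hx hqr i, fun p q hpq => ?_⟩
  have hπ : algebraMap A (ordRing x) (x i) ≠ 0 := fun h => α_ne_zero (hasOrd_var x hx hqr i).ne_zero
    (congrArg (Subtype.val : ordRing x → FractionRing A) h)
  have hp : p ≠ 0 := fun h => hπ (by rw [hpq, h, zero_mul])
  have hq : q ≠ 0 := fun h => hπ (by rw [hpq, h, mul_zero])
  obtain ⟨n, v, rfl⟩ := exists_eq_pow_mul x hx hqr i p hp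
  obtain ⟨m, w, rfl⟩ := exists_eq_pow_mul x hx hqr i q hq
  rcases n with _ | n
  · left; simp
  rcases m with _ | m
  · right; simp
  exfalso
  have h : algebraMap A (ordRing x) (x i) * 1 = algebraMap A (ordRing x) (x i) *
      (algebraMap A (ordRing x) (x i) * (algebraMap A (ordRing x) (x i) ^ (n + m) * (v * w))) := by
    rw [mul_one]; refine hpq.trans ?_; ring
  exact not_isUnit_var x hx hqr i (IsUnit.of_mul_eq_one _ (mul_left_cancel₀ hπ h).symm)

include hx hqr in
theorem isDiscreteValuationRing (i : Fin d) : IsDiscreteValuationRing (ordRing x) :=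
  IsDiscreteValuationRing.ofHasUnitMulPowIrreducibleFactorization
    ⟨_, irreducible_var x hx hqr i, fun {z} hz =>
      (exists_eq_pow_mul x hx hqr i z hz).imp fun _ ⟨v, hv⟩ => ⟨v, hv⟩⟩

theorem isFractionRing : IsFractionRing (ordRing x) (FractionRing A) := by
  refine IsFractionRing.of_field (ordRing x) (FractionRing A) fun z => ?_
  obtain ⟨⟨a, b⟩, hb⟩ := IsLocalization.surj (nonZeroDivisors A) z
  refine ⟨algebraMap A _ a, algebraMap A _ (b : A), ?_⟩
  show z = α a / α (b : A)
  rw [eq_div_iff (α_ne_zero (nonZeroDivisors.ne_zero b.2))]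
  exact hb

include hx hqr in
theorem not_mem_iff_isUnit (r : A) : IsUnit (algebraMap A (ordRing x) r) ↔ r ∉ maximalIdeal A := by
  rw [isUnit_iff x hx hqr hasOrd_one (a := r) (by simp) _ (by simp), zero_add, pow_one]

/-- The index type of the transcendence basis of the residue field. -/
abbrev Idx (i₀ : Fin d) : Type u := ULift.{u} {i : Fin d // i ≠ i₀}

/-- Homogenisation of a multidegree. -/
noncomputable def homMap (i₀ : Fin d) (n : ℕ) (s : Idx.{u} i₀ →₀ ℕ) : Fin d →₀ ℕ :=
  s.mapDomain (fun i => i.down.1) + Finsupp.single i₀ (n - s.sum fun _ e => e)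

theorem homMap_injective (i₀ : Fin d) (n : ℕ) : Function.Injective (homMap.{u} i₀ n) := by
  intro s t h
  ext i
  have h1 := DFunLike.congr_fun h i.down.1
  have hinj : Function.Injective (fun i : Idx.{u} i₀ => i.down.1) := fun a b hab => by
    ext; exact congrArg Fin.val hab
  simpa [homMap, Finsupp.mapDomain_apply hinj, Finsupp.single_eq_of_ne i.down.2.symm,
    Finsupp.single_eq_of_ne i.down.2] using h1

include hx hqr in
/-- The ratios of the parameters have algebraically independent residues, which generate. -/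
theorem exists_residueField_basis (i₀ : Fin d) [IsLocalRing (ordRing x)]
    (φ : ResidueField A →+* ResidueField (ordRing x))
    (hφ : φ.comp (residue A) = (residue (ordRing x)).comp (algebraMap A (ordRing x))) :
    letI := φ.toAlgebra
    ∃ (ι : Type u) (t : ι → ResidueField (ordRing x)), AlgebraicIndependent (ResidueField A) t ∧
      IntermediateField.adjoin (ResidueField A) (Set.range t) = ⊤ := by
  letI := φ.toAlgebra
  have h0 := hasOrd_var x hx hqr i₀
  let y : Fin d → ordRing x := fun j => ⟨_, div_mem x h0 (hasOrd_var x hx hqr j).1⟩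
  let t : Idx.{u} i₀ → ResidueField (ordRing x) := fun i => residue _ (y i.down.1)
  refine ⟨Idx.{u} i₀, t, ?_, ?_⟩
  · rw [algebraicIndependent_iff]
    intro P hP
    obtain ⟨P, rfl⟩ := map_surjective (residue A) residue_surjective P
    set n := P.totalDegree
    let F : MvPolynomial (Fin d) A := ∑ s ∈ P.support, monomial (homMap i₀ n s) (P.coeff s)
    have hdeg : ∀ s ∈ P.support, (homMap i₀ n s).degree = n := fun s hs => by
      have hsn : (s.sum fun _ e => e) ≤ n := le_totalDegree hs
      rw [homMap, map_add, Finsupp.degree_single, Finsupp.degree_mapDomain]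
      exact Nat.add_sub_of_le hsn
    have hF : F.IsHomogeneous n := IsHomogeneous.sum _ _ _ fun s hs => isHomogeneous_monomial _ (hdeg s hs)
    have hmem : eval x F ∈ maximalIdeal A ^ n := hx ▸ H06QR.eval_mem (f := x) hF
    let z : ordRing x := ⟨_, div_mem x (hasOrd_var_pow x hx hqr i₀ n) hmem⟩
    have hz : eval₂ (algebraMap A (ordRing x)) (fun i => y i.down.1) P = z := by
      apply Subtype.ext
      show (ordRing x).val (eval₂ (algebraMap A (ordRing x)) (fun i => y i.down.1) P) = α (eval x F) / α (x i₀ ^ n)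
      rw [← AlgHom.coe_toRingHom, eval₂_comp_left, eval₂_eq, map_sum, map_sum, Finset.sum_div]
      refine Finset.sum_congr rfl fun s hs => ?_
      rw [eval_monomial, homMap, Finsupp.prod_add_index' (fun _ => pow_zero _) (fun _ _ _ => pow_add _ _ _),
        Finsupp.prod_mapDomain_index (fun _ => pow_zero _) (fun _ _ _ => pow_add _ _ _),
        show (Finsupp.single i₀ (n - s.sum fun _ e => e)).prod (fun j e => x j ^ e) = x i₀ ^ (n - s.sum fun _ e => e) from
          Finsupp.prod_single_index (pow_zero _), map_mul, map_mul, map_pow, map_pow, map_finsuppProd]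
      have hsn : (s.sum fun _ e => e) ≤ n := le_totalDegree hs
      have h1 := α_ne_zero h0.ne_zero
      show α (P.coeff s) * s.prod (fun i e => (α (x i.down.1) / α (x i₀)) ^ e) = _
      rw [show s.prod (fun i e => (α (x i.down.1) / α (x i₀)) ^ e) =
          (s.prod fun i e => α (x i.down.1 ^ e)) / α (x i₀) ^ (s.sum fun _ e => e) by
        simp only [map_pow, div_pow, Finsupp.prod, Finsupp.sum, Finset.prod_div_distrib, Finset.prod_pow_eq_pow_sum]]
      obtain ⟨m, hm⟩ := Nat.exists_eq_add_of_le hsn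
      rw [hm, Nat.add_sub_cancel_left, pow_add]
      field_simp
    have hres : residue _ z = 0 := by
      rw [← hz, eval₂_comp_left, ← hφ, ← eval₂_map]
      exact hP
    have hz1 : eval x F ∈ maximalIdeal A ^ (n + 1) := by
      by_contra hc
      exact (residue_eq_zero_iff z).mp hres ((isUnit_iff x hx hqr (hasOrd_var_pow x hx hqr i₀ n) hmem z rfl).mpr hc)
    have hco := hqr n F hF (by rw [hx]; exact hz1)
    ext s
    rw [coeff_map, coeff_zero, residue_eq_zero_iff]
    by_cases hs : s ∈ P.support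
    · have h2 := hco (homMap i₀ n s)
      rw [hx, coeff_sum, Finset.sum_eq_single s (fun s' _ hne => by
          rw [coeff_monomial, if_neg fun h => hne (homMap_injective i₀ n h)])
        (fun h => absurd hs h), coeff_monomial, if_pos rfl] at h2
      exact h2
    · rw [notMem_support_iff.mp hs]; exact zero_mem _
  · set K' := IntermediateField.adjoin (ResidueField A) (Set.range t)
    have hy : ∀ j, residue _ (y j) ∈ K' := fun j => by
      by_cases hj : j = i₀
      · subst hj
        have : y j = 1 := Subtype.ext (div_self (α_ne_zero h0.ne_zero))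
        rw [this, map_one]; exact one_mem _
      · exact IntermediateField.subset_adjoin _ _ ⟨⟨⟨j, hj⟩⟩, rfl⟩
    have hA : ∀ r, residue _ (algebraMap A (ordRing x) r) ∈ K' := fun r => by
      rw [show residue _ (algebraMap A (ordRing x) r) = φ (residue A r) from (RingHom.congr_fun hφ r).symm]
      exact K'.algebraMap_mem _
    have key : ∀ (k : ℕ) (a : A) (ha : a ∈ maximalIdeal A ^ k),
        residue _ (⟨_, div_mem x (hasOrd_var_pow x hx hqr i₀ k) ha⟩ : ordRing x) ∈ K' := by
      intro k
      induction k with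
      | zero =>
        intro a ha
        convert hA a using 2
        exact Subtype.ext (by simp)
      | succ k ih =>
        intro a ha
        have h1 := α_ne_zero h0.ne_zero
        have ha' : a ∈ maximalIdeal A ^ k * Ideal.span (Set.range x) := by rw [hx, ← pow_succ]; exact ha
        suffices h : ∃ w : ordRing x, residue _ w ∈ K' ∧ (w : FractionRing A) = α a / α (x i₀ ^ (k + 1)) by
          obtain ⟨w, hw, hw'⟩ := h
          convert hw using 2
          exact Subtype.ext hw'.symm
        clear ha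
        refine Submodule.mul_induction_on ha' (fun p hp q hq => ?_) (fun p q ⟨w, hw, hw'⟩ ⟨v, hv, hv'⟩ => ?_)
        · obtain ⟨c, rfl⟩ := (Submodule.mem_span_range_iff_exists_fun A).mp hq
          refine ⟨⟨_, div_mem x (hasOrd_var_pow x hx hqr i₀ k) hp⟩ * ∑ j, algebraMap A _ (c j) * y j, ?_, ?_⟩
          · rw [map_mul, map_sum]
            refine mul_mem (ih p hp) (sum_mem fun j _ => ?_)
            rw [map_mul]; exact mul_mem (hA _) (hy j)
          · show α p / α (x i₀ ^ k) * (ordRing x).val (∑ j, algebraMap A _ (c j) * y j) = _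
            rw [map_sum, map_mul, map_sum, Finset.mul_sum, Finset.mul_sum, Finset.sum_div]
            refine Finset.sum_congr rfl fun j _ => ?_
            show α p / α (x i₀ ^ k) * (α (c j) * (α (x j) / α (x i₀))) = α p * α (c j * x j) / α (x i₀ ^ (k + 1))
            simp only [map_pow, map_mul]
            field_simp
            ring
        · exact ⟨w + v, by rw [map_add]; exact add_mem hw hv, by
            show (w : FractionRing A) + v = _
            rw [hw', hv', map_add]; ring⟩
    rw [eq_top_iff]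
    intro r _
    obtain ⟨z, rfl⟩ := residue_surjective r
    by_cases hu : IsUnit z
    · obtain ⟨a, b, k, hb, ha, hz⟩ := exists_rep x hx hqr z
      have h1 := α_ne_zero h0.ne_zero
      have h2 := α_ne_zero hb.ne_zero
      let wa : ordRing x := ⟨_, div_mem x (hasOrd_var_pow x hx hqr i₀ k) ha⟩
      let wb : ordRing x := ⟨_, div_mem x (hasOrd_var_pow x hx hqr i₀ k) hb.1⟩
      have hwb : IsUnit wb := (isUnit_iff x hx hqr (hasOrd_var_pow x hx hqr i₀ k) hb.1 wb rfl).mpr hb.2
      have he : z * wb = wa := by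
        apply Subtype.ext
        show (z : FractionRing A) * (α b / α (x i₀ ^ k)) = α a / α (x i₀ ^ k)
        rw [hz]; field_simp
      have : residue _ z = residue _ wa / residue _ wb := by
        rw [← he, map_mul, mul_div_cancel_right₀ _ (hwb.map (residue _)).ne_zero]
      rw [this]
      exact _root_.div_mem (key k a ha) (key k b hb.1)
    · rw [(residue_eq_zero_iff z).mpr hu]; exact zero_mem _

end Groth.Agent.H06RegVal
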